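import Mathlib
import Cfsg.Agent.H316.HT.Defs
import Cfsg.Agent.H362.HT.Over
import Cfsg.Agent.H649.Transport
import Cfsg.Agent.H610.EB.Red
import Cfsg.Agent.H955.FSDihedral
import Cfsg.Agent.S0854
import Cfsg.Agent.H596.Degree
import Cfsg.Agent.OddOrderCharacters.IndRes

/-!
# S4933, box P8: from characters over the principal block of `N` to the row (helper624)

* `goodOn_of` : the tool for the row writers;
* `Row.of` : `RowIn` and `RowOut` give `Row`;
* `mem_of_sup` : the characters of `N P` over the principal block of `N`.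
-/

set_option autoImplicit false

open Cfsg Subgroup

namespace Cfsg.Agent.H624.HT

open Cfsg.Agent.H316.HT Cfsg.Agent.Characters.Core
open Cfsg.Agent.Blocks.Basic (irr_one_eq_charDegree charDegree_pos)

universe u v

variable {G : Type u} [Group G] [Finite G] {p : ℕ} [hp : Fact p.Prime] {M : Ideal AlgInt}

/-- the product of a normal subgroup and a Sylow subgroup: `N` has index a power of `p` -/
theorem index_subgroupOf_sup (N : Subgroup G) [N.Normal] (P : Subgroup G) (hP : IsPGroup p P) :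
    ∃ j : ℕ, (N.subgroupOf (N ⊔ P)).index = p ^ j := by
  obtain ⟨n, hn⟩ := IsPGroup.iff_card.1 hP
  have h1 : N.relIndex (N ⊔ P) = N.relIndex P := by
    rw [sup_comm]
    exact relIndex_sup_right P N
  have h2 : N.relIndex P ∣ p ^ n := by
    rw [← hn]
    exact relIndex_dvd_card N P
  obtain ⟨j, -, hj⟩ := (Nat.dvd_prime_pow hp.out).1 h2
  exact ⟨j, by
    change N.relIndex (N ⊔ P) = p ^ j
    rw [h1, hj]⟩

theorem classInner_equiv {A : Type*} {B : Type*} [Group A] [Group B] [Fintype A] [Fintype B]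
    (e : A ≃ B) (f g : B → ℂ) : classInner (fun a => f (e a)) (fun a => g (e a)) = classInner f g := by
  rw [classInner_def, classInner_def, Nat.card_congr e]
  congr 1
  exact Fintype.sum_equiv e _ _ fun a => rfl

/-- the members of `Irr(N P)` over the principal block of `N` are in the principal block -/
theorem mem_of_sup (hM : IsPModular p M) (N : Subgroup G) [N.Normal] (P : Subgroup G) (hP : IsPGroup p P)
    (ψ : IrrCharacter N) (hψ : ψ ∈ principalBlock M N) (ξ : IrrCharacter ↥(N ⊔ P))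
    (hξψ : ∀ [Fintype N], classInner (fun n : N => (ξ : ↥(N ⊔ P) → ℂ) ⟨n, mem_sup_left n.2⟩) (ψ : N → ℂ) ≠ 0) :
    ξ ∈ principalBlock M ↥(N ⊔ P) := by
  classical
  have := Fintype.ofFinite N
  have := Fintype.ofFinite (N.subgroupOf (N ⊔ P))
  let e : N.subgroupOf (N ⊔ P) ≃* N := subgroupOfEquivOfLe le_sup_left
  have h1 : H649.irrMap e.symm ψ ∈ principalBlock M (N.subgroupOf (N ⊔ P)) := by
    rw [← H649.blkMap_principalBlock e.symm]
    exact H649.irrMap_mem_blkMap.2 hψ
  refine H610.EB.mem_of_over hM (N.subgroupOf (N ⊔ P)) (index_subgroupOf_sup N P hP) h1 ?_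
  have h2 := classInner_equiv e.toEquiv (fun n : N => (ξ : ↥(N ⊔ P) → ℂ) ⟨n, mem_sup_left n.2⟩) (ψ : N → ℂ)
  have h3 := hξψ
  rw [← h2] at h3
  exact h3

/-- the exact content of box P1 (helper362) used here -/
def OverP (p : ℕ) (M : Ideal AlgInt) (G : Type u) [Group G] : Prop :=
  ∀ (P : Sylow p G) (H : Subgroup G), (P : Subgroup G) ≤ H → ∀ ξ : IrrCharacter H, ξ ∈ principalBlock M H →
    ∃ χ : IrrCharacter G, χ ∈ principalBlock M G ∧ vd p (χ : G → ℂ) ≤ vd p (ξ : H → ℂ) ∧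
      ∀ [Fintype H], classInner (fun h : H => (χ : G → ℂ) h) (ξ : H → ℂ) ≠ 0

omit [Finite G] in
theorem charDegree_indFun [Fintype G] (T : Subgroup G) {η : T → ℂ} (hη : IsIrrCharacter T η)
    {χ : G → ℂ} (hχ : IsIrrCharacter G χ) (h : indFun T η = χ) : charDegree χ = T.index * charDegree η := by
  have h1 := irr_one_eq_charDegree hχ
  have h2 := irr_one_eq_charDegree hη
  have h3 : (χ : G → ℂ) 1 = T.index * η 1 := by
    rw [← h, Cfsg.Agent.OddOrderCharacters.IndRes.indFun_apply_one]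
  rw [h1, h2] at h3
  exact_mod_cast h3

omit [Finite G] in
/-- a stabiliser as a subgroup -/
theorem exists_stab (N : Subgroup G) [hN : N.Normal] (ψ : N → ℂ) :
    ∃ T : Subgroup G, ∀ g : G, g ∈ T ↔ ∀ n : N, ψ ⟨g * n * g⁻¹, hN.conj_mem (n : G) n.2 g⟩ = ψ n := by
  refine ⟨{ carrier := {g | ∀ n : N, ψ ⟨g * n * g⁻¹, hN.conj_mem (n : G) n.2 g⟩ = ψ n}
            one_mem' := fun n => by
              congr 1
              exact Subtype.ext (by simp)
            mul_mem' := ?_
            inv_mem' := ?_ }, fun g => Iff.rfl⟩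
  · intro a b ha hb n
    have h1 := ha ⟨b * n * b⁻¹, hN.conj_mem (n : G) n.2 b⟩
    have h2 := hb n
    rw [← h2, ← h1]
    congr 1
    exact Subtype.ext (by simp [mul_assoc])
  · intro a ha n
    have h1 := ha ⟨a⁻¹ * n * a⁻¹⁻¹, hN.conj_mem (n : G) n.2 a⁻¹⟩
    rw [← h1]
    congr 1
    exact Subtype.ext (by simp [mul_assoc])

/-- **the tool for the rows**, with `exists_over` as a hypothesis -/
theorem goodOn_of' (hM : IsPModular p M) (hov : OverP p M G) (N : Subgroup G) [hN : N.Normal] (P : Sylow p G) {a : ℕ}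
    (ψ : IrrCharacter N) (hψ : ψ ∈ principalBlock M N) (H : Subgroup G) (hH : H = N ⊔ P) (ξ : IrrCharacter H)
    (hξψ : ∀ [Fintype N], classInner (fun n : N => (ξ : H → ℂ) ⟨n, hH ▸ Subgroup.mem_sup_left n.2⟩) (ψ : N → ℂ) ≠ 0)
    (hξ : vd p (ξ : H → ℂ) ≤ a) (hdiv : p ∣ charDegree (ψ : N → ℂ) ∨ ∀ T : Subgroup G,
      (∀ g : G, g ∈ T ↔ ∀ n n' : N, (n' : G) = g * n * g⁻¹ → (ψ : N → ℂ) n' = (ψ : N → ℂ) n) → p ∣ T.index)
    (hne : (ψ : N → ℂ) ≠ fun _ => 1) : GoodOn p a M N := by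
  classical
  have := Fintype.ofFinite G
  have := Fintype.ofFinite N
  subst hH
  have := Fintype.ofFinite ↥(N ⊔ (P : Subgroup G))
  have hξ0 := mem_of_sup hM N P P.isPGroup' ψ hψ ξ hξψ
  obtain ⟨χ, hχ, hv, hc⟩ := hov P (N ⊔ P) le_sup_right ξ hξ0
  have hcon : classInner (fun n : N => (χ : G → ℂ) n) (ψ : N → ℂ) ≠ 0 :=
    Cfsg.Agent.H955.FS.constituent_trans (inclusion (le_sup_left : N ≤ N ⊔ (P : Subgroup G)))
      (isCharacter_comp (N ⊔ (P : Subgroup G)).subtype (isIrr_isCharacter χ.2)) ξ.2 ψ.2 hc hξψ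
  have hp0 : charDegree (χ : G → ℂ) ≠ 0 := (charDegree_pos χ.2).ne'
  have hdvd : p ∣ charDegree (χ : G → ℂ) := by
    rcases hdiv with hd | hd
    · exact hd.trans (H596.charDegree_dvd_of_over N χ.2 ψ.2 hcon).1
    · obtain ⟨T, hT⟩ := exists_stab N (ψ : N → ℂ)
      have := Fintype.ofFinite T
      have hNT : N ≤ T := by
        intro g hg
        rw [hT]
        intro n
        have h1 := isIrr_isClassFunction ψ.2 n ⟨g, hg⟩
        exact h1
      obtain ⟨η, hη, hi, -⟩ := S0854.result N (ψ : N → ℂ) ψ.2 T hT hNT (χ : G → ℂ) χ.2 hcon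
      rw [charDegree_indFun T hη χ.2 hi]
      refine Dvd.dvd.mul_right (hd T ?_) _
      intro g
      rw [hT]
      constructor
      · intro h n n' hn
        rw [← h n]
        exact congrArg (ψ : N → ℂ) (Subtype.ext hn)
      · intro h n
        exact h n _ rfl
  refine ⟨χ, hχ, ?_, ?_, hv.trans hξ⟩
  · by_contra hcon'
    push Not at hcon'
    apply hcon
    let one : IrrCharacter N := ⟨fun _ => 1, Cfsg.Agent.Blocks.Basic.isIrrCharacter_one⟩
    have h1 : (fun n : N => (χ : G → ℂ) n) = (χ : G → ℂ) 1 • (one : N → ℂ) := by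
      funext n
      rw [hcon' n n.2]
      simp [one]
    rw [h1, classInner_smul_left, classInner_irr_ne one.2 ψ.2 (fun h => hne h.symm), mul_zero]
  · rw [vd, Nat.pos_iff_ne_zero]
    exact (hp.out.factorization_pos_of_dvd hp0 hdvd).ne'

omit [Finite G] hp in
theorem CD.of_equiv {a : ℕ} {P : Type u} {Q : Type v} [Group P] [Group Q] (e : P ≃* Q) (h : CD p a P) : CD p a Q := by
  refine ⟨fun φ => ?_, ?_⟩
  · have h1 := h.1 (H649.irrMap e.symm φ)
    rwa [H649.charDegree_irrMap] at h1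
  · obtain ⟨φ, hφ⟩ := h.2
    exact ⟨H649.irrMap e φ, by rw [H649.charDegree_irrMap, hφ]⟩

/-- `RowIn` and `RowOut` give `Row`, with `exists_over` as a hypothesis -/
theorem Row.of' (hov : ∀ (A : Type) [Group A] [Finite A] (M : Ideal AlgInt), IsPModular p M → OverP p M A)
    {S : Type v} [Group S] [Finite S] (h1 : RowIn p S) (h2 : RowOut p S) : Row p S := by
  intro A _ _ N _ ⟨e⟩ hC M hM P a ha hcd
  by_cases hPN : (P : Subgroup A) ≤ N
  swap
  · exact h2 A N ⟨e⟩ hC M hM P a ha hcd hPN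
  classical
  have := Fintype.ofFinite N
  have := Fintype.ofFinite A
  let P' : Sylow p N := P.subtype hPN
  let Q : Sylow p S := P'.mapSurjective (f := e.toMonoidHom) e.surjective
  have hQ : ((P : Subgroup A).subgroupOf N).map e.toMonoidHom = (Q : Subgroup S) := rfl
  let e1 : (P : Subgroup A) ≃* ((P : Subgroup A).subgroupOf N).map e.toMonoidHom :=
    (subgroupOfEquivOfLe hPN).symm.trans (e.subgroupMap _)
  have hcd' : CD p a (Q : Subgroup S) := CD.of_equiv e1 hcd
  obtain ⟨χ, hχ, hv0, hva⟩ := h1 M hM Q a ha hcd'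
  have hψ : H649.irrMap e.symm χ ∈ principalBlock M N := by
    rw [← H649.blkMap_principalBlock e.symm]
    exact H649.irrMap_mem_blkMap.2 hχ
  have hvψ : vd p (H649.irrMap e.symm χ : N → ℂ) = vd p (χ : S → ℂ) := by
    rw [vd, vd, H649.charDegree_irrMap]
  have hsup : N = N ⊔ (P : Subgroup A) := (sup_eq_left.2 hPN).symm
  let e2 : N ≃* ↥(N ⊔ (P : Subgroup A)) := MulEquiv.subgroupCongr hsup
  refine goodOn_of' hM (hov A M hM) N P (H649.irrMap e.symm χ) hψ (N ⊔ P) rfl (H649.irrMap e2 (H649.irrMap e.symm χ))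
    ?_ ?_ ?_ ?_
  · intro _
    have h3 : (fun n : N => (H649.irrMap e2 (H649.irrMap e.symm χ) : ↥(N ⊔ (P : Subgroup A)) → ℂ)
        ⟨n, mem_sup_left n.2⟩) = (H649.irrMap e.symm χ : N → ℂ) := by
      funext n
      exact H649.irrMap_apply' e2 (H649.irrMap e.symm χ) n
    rw [h3]
    intro h0
    have h4 := classInner_irr_self (H649.irrMap e.symm χ).2
    have h5 : classInner (H649.irrMap e.symm χ : N → ℂ) (H649.irrMap e.symm χ : N → ℂ) = 1 := by
      convert h4
    rw [h5] at h0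
    exact one_ne_zero h0
  · rw [vd, H649.charDegree_irrMap]
    exact hvψ.trans_le hva
  · left
    have h3 : 0 < vd p (H649.irrMap e.symm χ : N → ℂ) := by rwa [hvψ]
    exact Nat.dvd_of_factorization_pos h3.ne'
  · intro h0
    have h3 : 0 < vd p (H649.irrMap e.symm χ : N → ℂ) := by rwa [hvψ]
    rw [h0, vd] at h3
    have h4 : charDegree (fun _ : N => (1 : ℂ)) = 1 := by
      simp [charDegree]
    rw [h4] at h3
    simp at h3

theorem overP (hM : IsPModular p M) : OverP p M G := fun P H hPH ξ hξ => H362.HT.exists_over hM P H hPH ξ hξ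

/-- **the tool for the row writers** -/
theorem goodOn_of (hM : IsPModular p M) (N : Subgroup G) [hN : N.Normal] (P : Sylow p G) {a : ℕ}
    (ψ : IrrCharacter N) (hψ : ψ ∈ principalBlock M N) (H : Subgroup G) (hH : H = N ⊔ P) (ξ : IrrCharacter H)
    (hξψ : ∀ [Fintype N], classInner (fun n : N => (ξ : H → ℂ) ⟨n, hH ▸ Subgroup.mem_sup_left n.2⟩) (ψ : N → ℂ) ≠ 0)
    (hξ : vd p (ξ : H → ℂ) ≤ a) (hdiv : p ∣ charDegree (ψ : N → ℂ) ∨ ∀ T : Subgroup G,
      (∀ g : G, g ∈ T ↔ ∀ n n' : N, (n' : G) = g * n * g⁻¹ → (ψ : N → ℂ) n' = (ψ : N → ℂ) n) → p ∣ T.index)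
    (hne : (ψ : N → ℂ) ≠ fun _ => 1) : GoodOn p a M N :=
  goodOn_of' hM (overP hM) N P ψ hψ H hH ξ hξψ hξ hdiv hne

/-- **P8** -/
theorem Row.of {S : Type v} [Group S] [Finite S] (h1 : RowIn p S) (h2 : RowOut p S) : Row p S :=
  Row.of' (fun _ _ _ _ hM => overP hM) h1 h2

end Cfsg.Agent.H624.HT
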